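import Groth.Agent.Lib.SchColim29.Opens
import Groth.Agent.Lib.SchColim29.Modules
import Groth.Agent.Lib.ToposFin.CohomTop
import Groth.Agent.Lib.Modules.ToSheaf
import Groth.Agent.Lib.Curves.LES
import Mathlib.CategoryTheory.Limits.Constructions.Filtered

/-!
# Cohomology classes of a direct sum come from finitely many summands
-/

noncomputable section

universe u

open CategoryTheory CategoryTheory.Limits AlgebraicGeometry Opposite
open CategoryTheory.Limits.CoproductsFromFiniteFiltered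

namespace Groth.Agent.H95.DualPair.Coprod

open Groth.Agent.Lib Groth.Agent.Lib.SchColim29

variable {X : Scheme.{u}}

theorem isAlgebraic : ToposFin.IsAlgebraic (Opens.Jz X) := by
  refine ⟨Opens.qcqsSet X, Opens.isQC_of_mem, Opens.isGenerating, Opens.closedUnderPullbacks, ?_⟩
  rintro K L a b hK ⟨V, hV, hV', rfl⟩
  obtain rfl : a = b := Opens.mono_terminal_eps V K a b
  exact ⟨K, 𝟙 K, rfl, hK, ⟨Fork.IsLimit.mk _ (fun s => s.ι) (fun s => Category.comp_id _)
    (fun s m hm => (Category.comp_id m).symm.trans hm)⟩⟩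

/-- The whole space is the final object. -/
def epsTopIso : ToposFin.eps (Opens.Jz X) (⊤ : X.Opens) ≅ ⊤_ (ToposFin.Sh (Opens.Jz X)) :=
  haveI : PreservesLimitsOfShape (Discrete PEmpty.{1}) (CanonSheaf.ε (Opens.Jz X)) :=
    inferInstanceAs (PreservesLimitsOfShape _ (yoneda ⋙ presheafToSheaf (Opens.Jz X) (Type u)))
  (IsTerminal.isTerminalObj (CanonSheaf.ε (Opens.Jz X)) _ isTerminalTop).uniqueUpToIso terminalIsTerminal

theorem preserves_functorH [CompactSpace X] [QuasiSeparatedSpace X] (Λ : Type u) [SmallCategory Λ] [IsFiltered Λ]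
    (q : ℕ) : PreservesColimitsOfShape Λ (Sheaf.functorH (Opens.Jz X) q) := by
  have h := ToposFin.CohomTop.colimAcyclic_of_iso
    ((SiteCoh.FreeSheaf.freeSh (Opens.Jz X)).mapIso epsTopIso ≪≫ ToposFin.CohomTop.freeTopIso (Opens.Jz X))
    (ToposFin.Cohom.colimAcyclic_free isAlgebraic (SchColim29.Modules.coherent_eps ⊤
      (by simpa using (isCompact_univ : IsCompact (Set.univ : Set X)))
      (by simpa using (isQuasiSeparated_univ : IsQuasiSeparated (Set.univ : Set X)))) Λ)
  haveI := h.preservesColimitsOfShape q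
  exact preservesColimitsOfShape_of_natIso
    (F := (Abelian.extFunctor.{u} q).obj (op ((constantSheaf (Opens.Jz X) AddCommGrpCat.{u}).obj
      (AddCommGrpCat.of (ULift.{u} ℤ)))))
    (NatIso.ofComponents (fun _ => Iso.refl _))

variable (A : Type u) [CommRing A] [X.Over (Spec (CommRingCat.of A))]

theorem mapK_add {M N : X.Modules} (φ ψ : M ⟶ N) (q : ℕ) (x : Coh.HH X M q) :
    Curves.LES.mapK A (φ + ψ) q x = Curves.LES.mapK A φ q x + Curves.LES.mapK A ψ q x :=
  (congrArg (fun g : Coh.toAb M ⟶ Coh.toAb N => Sheaf.H.map g q x)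
    (Functor.map_add (F := Curves.LES.F X))).trans (Sheaf.H.map_add_apply _ _ _)

theorem exists_rep [CompactSpace X] [QuasiSeparatedSpace X] {Λ : Type u} [SmallCategory Λ] [IsFiltered Λ]
    (D : Λ ⥤ X.Modules) (c : Cocone D) (hc : IsColimit c) (q : ℕ) (x : Coh.HH X c.pt q) :
    ∃ (i : Λ) (z : Coh.HH X (D.obj i) q), Sheaf.H.map ((Curves.LES.F X).map (c.ι.app i)) q z = x := by
  haveI := preserves_functorH (X := X) Λ q
  haveI : PreservesColimitsOfShape Λ (SheafOfModules.toSheaf.{u} X.ringCatSheaf) :=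
    Modules.ToSheaf.toSheaf_preservesColimitsOfShape _ _
  let F : X.Modules ⥤ Sheaf (Opens.Jz X) AddCommGrpCat.{u} := SheafOfModules.toSheaf.{u} X.ringCatSheaf
  haveI : PreservesColimitsOfShape Λ F :=
    Modules.ToSheaf.toSheaf_preservesColimitsOfShape _ _
  exact Concrete.isColimit_exists_rep _
    (isColimitOfPreserves (Sheaf.functorH (Opens.Jz X) q) (isColimitOfPreserves F hc)) x

set_option maxHeartbeats 800000 in
theorem decomp {ι : Type u} (M : ι → X.Modules) (q : ℕ) (S : Finset (Discrete ι))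
    (z : Coh.HH X (∐ fun j : S => M j.1.as) q) :
    ∃ (s : Finset ι) (y : ∀ i, Coh.HH X (M i) q),
      Curves.LES.mapK A (Sigma.desc fun j : S => Sigma.ι M j.1.as) q z =
        ∑ i ∈ s, Curves.LES.mapK A (Sigma.ι M i) q (y i) := by
  classical
  let ιS : ∀ j : S, M j.1.as ⟶ ∐ fun j : S => M j.1.as := Sigma.ι (fun j : S => M j.1.as)
  let π : ∀ j : S, (∐ fun j : S => M j.1.as) ⟶ M j.1.as := fun j =>
    Sigma.desc fun l => if h : l = j then eqToHom (by rw [h]) else 0
  let d : (∐ fun j : S => M j.1.as) ⟶ ∐ M := Sigma.desc fun j => Sigma.ι M j.1.as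
  have htot : ∑ j, π j ≫ ιS j = 𝟙 (∐ fun j : S => M j.1.as) := Sigma.hom_ext _ _ fun l => by
    rw [Preadditive.comp_sum, Category.comp_id, Finset.sum_eq_single l]
    · simp [π, ιS]
    · intro b _ hb; simp [π, ιS, Ne.symm hb]
    · simp
  have hadd : ∀ (φ : S → ((∐ fun j : S => M j.1.as) ⟶ ∐ M)),
      Curves.LES.mapK A (∑ j, φ j) q z = ∑ j, Curves.LES.mapK A (φ j) q z := fun φ =>
    map_sum (AddMonoidHom.mk' (fun ψ : _ ⟶ ∐ M => Curves.LES.mapK A ψ q z)
      fun ψ ψ' => mapK_add A ψ ψ' q z) φ Finset.univ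
  let y : ∀ i, Coh.HH X (M i) q := fun i =>
    if h : Discrete.mk i ∈ S then Curves.LES.mapK A (π ⟨Discrete.mk i, h⟩) q z else 0
  refine ⟨S.image Discrete.as, y, ?_⟩
  rw [Finset.sum_image (fun a _ b _ h => Discrete.ext h), ← Finset.sum_coe_sort S]
  have hd : d = ∑ j, π j ≫ Sigma.ι M j.1.as := by
    have h1 : d = ∑ j, π j ≫ ιS j ≫ d := by
      simp only [← Category.assoc, ← Preadditive.sum_comp, htot, Category.id_comp]
    refine h1.trans (Finset.sum_congr rfl fun j _ => ?_)
    exact congrArg (π j ≫ ·) (Sigma.ι_desc _ j)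
  refine (congrArg (fun e => Curves.LES.mapK A e q z) hd).trans ((hadd _).trans ?_)
  refine Finset.sum_congr rfl fun j _ => ?_
  have hy : y j.1.as = Curves.LES.mapK A (π j) q z := dif_pos (show Discrete.mk j.1.as ∈ S from j.2)
  rw [hy]
  exact LinearMap.congr_fun (Curves.LES.mapK_comp A (π j) (Sigma.ι M j.1.as) q) z

theorem exists_finset [CompactSpace X] [QuasiSeparatedSpace X] {ι : Type u} (M : ι → X.Modules) (q : ℕ)
    (x : Coh.HH X (∐ M) q) :
    ∃ (s : Finset ι) (y : ∀ i, Coh.HH X (M i) q), x = ∑ i ∈ s, Curves.LES.mapK A (Sigma.ι M i) q (y i) := by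
  classical
  obtain ⟨S, z, hz⟩ := exists_rep (liftToFinsetObj (Discrete.functor M)) _
    (isColimitFiniteSubproductsCocone M) q x
  obtain ⟨s, y, h⟩ := decomp A M q S z
  exact ⟨s, y, hz.symm.trans h⟩

end Groth.Agent.H95.DualPair.Coprod
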