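import Groth.Agent.H95.DualPair.Coprod
import Groth.Agent.S4342
import Groth.Agent.Lib.Modules.StalkModule
import Groth.Prelude.Def_Canon

/-!
# Extending bijectivity of the duality map along presentations
-/

noncomputable section

universe u

open CategoryTheory CategoryTheory.Limits AlgebraicGeometry Opposite TopologicalSpace

namespace Groth.Agent.H95.DualPair.Extend

open Groth.Agent.Lib

variable (A : Type u) [CommRing A] {X : Scheme.{u}} [X.Over (Spec (CommRingCat.of A))]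
variable (r : ℕ) (ω : X.Modules) (tr : Coh.HH X ω r →ₗ[A] A)

/-- The duality map of `F` is bijective. -/
def D (F : X.Modules) : Prop := Function.Bijective (Canon.dualityMap A X r ω tr F)

theorem HHlin_eq {F G : X.Modules} (φ : F ⟶ G) : Canon.HHlin A φ r = Curves.LES.mapK A φ r :=
  LinearMap.ext fun _ => rfl

theorem dual_comp {F G : X.Modules} (f : F ⟶ G) (φ : G ⟶ ω) :
    Canon.dualityMap A X r ω tr F (f ≫ φ) = (Canon.dualityMap A X r ω tr G φ).comp (Curves.LES.mapK A f r) := by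
  simp only [Canon.dualityMap, HHlin_eq, Curves.LES.mapK_comp, LinearMap.comp_assoc]

theorem dual_zero (F : X.Modules) : Canon.dualityMap A X r ω tr F 0 = 0 := by
  refine LinearMap.ext fun x => ?_
  have h : Curves.LES.mapK A (0 : F ⟶ ω) r x = 0 := by
    have := Coprod.mapK_add A (0 : F ⟶ ω) 0 r x
    rw [add_zero] at this
    exact left_eq_add.1 this
  simp only [Canon.dualityMap, HHlin_eq, LinearMap.comp_apply, h, map_zero, LinearMap.zero_apply]

variable {A r ω tr}

theorem D_of_iso {F G : X.Modules} (e : F ≅ G) (h : D A r ω tr F) : D A r ω tr G := by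
  refine ⟨fun φ ψ hφψ => ?_, fun ψ => ?_⟩
  · refine (cancel_epi e.hom).1 (h.1 ?_)
    rw [dual_comp, dual_comp, hφψ]
  · obtain ⟨φ, hφ⟩ := h.2 (ψ.comp (Curves.LES.mapK A e.hom r))
    refine ⟨e.inv ≫ φ, ?_⟩
    rw [dual_comp, hφ, LinearMap.comp_assoc, ← Curves.LES.mapK_comp, e.inv_hom_id, Curves.LES.mapK_id,
      LinearMap.comp_id]

theorem D_sigma [CompactSpace X] [QuasiSeparatedSpace X] {ι : Type u} (M : ι → X.Modules)
    (h : ∀ i, D A r ω tr (M i)) : D A r ω tr (∐ M) := by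
  refine ⟨fun φ ψ hφψ => Sigma.hom_ext _ _ fun i => (h i).1 ?_, fun ψ => ?_⟩
  · rw [dual_comp, dual_comp, hφψ]
  · choose φ hφ using fun i => (h i).2 (ψ.comp (Curves.LES.mapK A (Sigma.ι M i) r))
    refine ⟨Sigma.desc φ, LinearMap.ext fun x => ?_⟩
    obtain ⟨s, y, rfl⟩ := Coprod.exists_finset A M r x
    simp only [map_sum]
    refine Finset.sum_congr rfl fun i _ => ?_
    have := LinearMap.congr_fun (dual_comp A r ω tr (Sigma.ι M i) (Sigma.desc φ)) (y i)
    rw [Sigma.ι_desc, hφ i] at this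
    exact this.symm

theorem D_of_presentation {K P F Q : X.Modules} (f : K ⟶ P) (g : P ⟶ F) (w : f ≫ g = 0)
    (hS : (ShortComplex.mk f g w).ShortExact) (hK : Subsingleton (Coh.HH X K (r + 1)))
    (q : Q ⟶ K) (hq : Epi q) (hP : D A r ω tr P) (hQ : D A r ω tr Q) : D A r ω tr F := by
  haveI := hS.epi_g
  haveI : Epi g := hS.epi_g
  refine ⟨fun φ ψ hφψ => (cancel_epi g).1 (hP.1 ?_), fun ψ => ?_⟩
  · rw [dual_comp, dual_comp, hφψ]
  · obtain ⟨φ₀, hφ₀⟩ := hP.2 (ψ.comp (Curves.LES.mapK A g r))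
    have h0 : f ≫ φ₀ = 0 := by
      refine (cancel_epi q).1 (hQ.1 ?_)
      rw [comp_zero, dual_zero, dual_comp, dual_comp, hφ₀]
      refine LinearMap.ext fun x => ?_
      have h2 : Curves.LES.mapK A g r (Curves.LES.mapK A f r (Curves.LES.mapK A q r x)) = 0 :=
        (Curves.LES.exactK₂ A hS r).apply_apply_eq_zero _
      simp [h2]
    let φ : F ⟶ ω := hS.exact.desc φ₀ h0
    have hgφ : g ≫ φ = φ₀ := hS.exact.g_desc _ _
    refine ⟨φ, LinearMap.ext fun z => ?_⟩
    obtain ⟨x, rfl⟩ : ∃ x, Curves.LES.mapK A g r x = z :=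
      (Curves.LES.exactK₃ A hS r (r + 1) rfl z).1 (@Subsingleton.elim _ hK _ _)
    have := LinearMap.congr_fun (dual_comp A r ω tr g φ) x
    rw [hgφ, hφ₀] at this
    exact this.symm

/-- The bootstrap: bijectivity on a class covering every coherent module extends to quasi-coherent modules. -/
theorem D_of_covering (hqc : ∀ K : X.Modules, Coh.IsQCoh K → Subsingleton (Coh.HH X K (r + 1)))
    (hcov : ∀ F : X.Modules, Coh.IsQCoh F → ∃ (P : X.Modules) (p : P ⟶ F), Epi p ∧ Coh.IsQCoh P ∧ D A r ω tr P)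
    (F : X.Modules) (hF : Coh.IsQCoh F) : D A r ω tr F := by
  obtain ⟨P, p, hp, hPq, hP⟩ := hcov F hF
  haveI := hp
  haveI : P.IsQuasicoherent := hPq
  haveI : F.IsQuasicoherent := hF
  have hKq : Coh.IsQCoh (kernel p) := QCoh.Closure.isQCoh_kernel p
  obtain ⟨Q, q, hq, -, hQ⟩ := hcov _ hKq
  exact D_of_presentation (kernel.ι p) p (kernel.condition p)
    { exact := ShortComplex.exact_of_f_is_kernel _ (kernelIsKernel p) } (hqc _ hKq) q hq hP hQ

/-- A quasi-coherent module on a noetherian scheme is a quotient of a sum of coherent modules. -/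
theorem exists_epi_coh [IsLocallyNoetherian X] (F : X.Modules) (hF : Coh.IsQCoh F) :
    ∃ (ι : Type u) (G : ι → X.Modules) (p : (∐ G) ⟶ F), (∀ i, Coh.IsCoh (G i)) ∧ Epi p := by
  haveI : Coh.IsQCoh F := hF
  have hX : ∀ x : X, ∃ U : X.Opens, x ∈ U ∧ TopologicalSpace.NoetherianSpace (U : Set X) := fun x => by
    obtain ⟨U, hU, hxU, -⟩ := exists_isAffineOpen_mem_and_subset (U := (⊤ : X.Opens)) (x := x) trivial
    haveI : IsNoetherianRing Γ(X, U) := IsLocallyNoetherian.component_noetherian ⟨U, hU⟩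
    exact ⟨U, hxU, noetherianSpace_of_isAffineOpen U hU⟩
  choose G i _ hGq hGf g hg using fun j : Σ U : X.affineOpens, F.val.obj (op (U : X.Opens)) =>
    S4342.result hX F j.1 j.2
  refine ⟨_, G, Sigma.desc i, fun j => ⟨hGq j, hGf j⟩, ?_⟩
  refine (Modules.StalkModule.epi_iff_stalkMapₗ_surjective _).2 fun x t => ?_
  obtain ⟨U, hxU, s, rfl⟩ := TopCat.Presheaf.germ_exist F.presheaf t
  obtain ⟨V, hV, hxV, hVU⟩ := exists_isAffineOpen_mem_and_subset (U := U) (x := x) hxU
  let j : Σ U : X.affineOpens, F.val.obj (op (U : X.Opens)) :=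
    ⟨⟨V, hV⟩, F.presheaf.map (homOfLE hVU).op s⟩
  refine ⟨(∐ G).presheaf.germ V x hxV ((Sigma.ι G j).app V (g j)), ?_⟩
  have e : (Sigma.desc i).app V ((Sigma.ι G j).app V (g j)) = F.presheaf.map (homOfLE hVU).op s := by
    refine (ConcreteCategory.congr_hom (congrArg (fun ψ : G j ⟶ F => ψ.app V) (Sigma.ι_desc i j)) (g j)).trans ?_
    exact hg j
  refine (Modules.StalkModule.stalkMapₗ_germ _ hxV _).trans ?_
  rw [e]
  exact TopCat.Presheaf.germ_res_apply _ _ _ _ _

end Groth.Agent.H95.DualPair.Extend
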